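import Cfsg.Agent.Lib.Chev.CoxTorus.Poly
import Mathlib.LinearAlgebra.FreeModule.Finite.CardQuotient
import Mathlib.GroupTheory.Exponent
import Mathlib.LinearAlgebra.Matrix.ToLinearEquiv

/-!
The kernel of `q - M` on `(ZMod m) ^ l` is cyclic of order `f(q)` when `q` is a simple root modulo each `p²`-divisor.
-/

set_option autoImplicit false

namespace Cfsg.Agent.Lib.Chev.E6Cyclic

open Polynomial
open Cfsg.Agent.Lib.Chev.CoxTorus (cast_aeval aeval_mulVec_eigen)

variable {l : ℕ}

theorem exists_generator {q N m : ℕ} {P : ℤ[X]} (hl0 : 0 < l) (M : Matrix (Fin l) (Fin l) ℤ)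
    (hchar : M.charpoly = P) (h0 : aeval M P = 0)
    (hN : P.eval (q : ℤ) = (N : ℤ)) (hNm : N ∣ m) (hm : 0 < m)
    (hp : ∀ p : ℕ, p.Prime → p ∣ N → (derivative (P.map (Int.castRingHom (ZMod p)))).eval (q : ZMod p) ≠ 0 ∨ ¬ p ^ 2 ∣ N) :
    ∃ v : Fin l → ZMod m, addOrderOf v = N ∧
      ((Matrix.scalar (Fin l) (q : ℤ) - M).map (Int.cast : ℤ → ZMod m)).mulVec v = 0 ∧
      ∀ u : Fin l → ZMod m, ((Matrix.scalar (Fin l) (q : ℤ) - M).map (Int.cast : ℤ → ZMod m)).mulVec u = 0 →
        u ∈ AddSubgroup.zmultiples v := by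
  classical
  have : NeZero m := ⟨hm.ne'⟩
  set B := Matrix.scalar (Fin l) (q : ℤ) - M with hB
  have hN0 : 0 < N := Nat.pos_of_dvd_of_pos hNm hm
  have hdet : B.det = N := by rw [hB, ← Matrix.eval_charpoly, hchar, hN]
  obtain ⟨g, hg⟩ : X - C (q : ℤ) ∣ P - C (N : ℤ) :=
    dvd_iff_isRoot.2 (by simp [IsRoot, hN])
  set G := aeval M g with hG
  have hBG : B * G = (N : ℤ) • (1 : Matrix (Fin l) (Fin l) ℤ) := by
    have h1 := congrArg (aeval M) hg
    rw [map_sub, h0, aeval_C, map_mul, map_sub, aeval_X, aeval_C, zero_sub] at h1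
    have h2 : B * G = algebraMap ℤ (Matrix (Fin l) (Fin l) ℤ) (N : ℤ) := by
      rw [hB, show Matrix.scalar (Fin l) (q : ℤ) = algebraMap ℤ (Matrix (Fin l) (Fin l) ℤ) (q : ℤ) from rfl,
        ← neg_sub M, neg_mul, ← h1, neg_neg]
    rw [h2, Algebra.algebraMap_eq_smul_one]
  have hGB : G * B = (N : ℤ) • (1 : Matrix (Fin l) (Fin l) ℤ) := by
    have hc : Commute M G := by
      have := (Commute.all X g).map (aeval M)
      rwa [aeval_X] at this
    have hc2 : Commute B G := (Matrix.scalar_commute (q : ℤ) (fun r' => Commute.all _ _) G).sub_left hc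
    rw [← hc2.eq, hBG]
  set k := m / N with hk
  have hkN : k * N = m := Nat.div_mul_cancel hNm
  let f : (Fin l → ℤ) →+ (Fin l → ZMod m) :=
    { toFun := fun u i => (((k : ℤ) * G.mulVec u i : ℤ) : ZMod m)
      map_zero' := by funext i; simp
      map_add' := fun a b => by funext i; simp [Matrix.mulVec_add, mul_add] }
  set Bm := B.map (Int.cast : ℤ → ZMod m) with hBm
  have hcast : ∀ w : Fin l → ℤ, Bm.mulVec (fun i => ((w i : ℤ) : ZMod m)) = fun i => ((B.mulVec w i : ℤ) : ZMod m) := by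
    intro w; funext i
    simp [hBm, Matrix.mulVec, dotProduct, Matrix.map_apply]
  have hfker : ∀ u, Bm.mulVec (f u) = 0 := by
    intro u
    show Bm.mulVec (fun i => (((k : ℤ) * G.mulVec u i : ℤ) : ZMod m)) = 0
    rw [hcast (fun i => (k : ℤ) * G.mulVec u i)]
    funext i
    have e : B.mulVec (fun i => (k : ℤ) * G.mulVec u i) = fun i => (m : ℤ) * u i := by
      rw [show (fun i => (k : ℤ) * G.mulVec u i) = (k : ℤ) • G.mulVec u from rfl, Matrix.mulVec_smul,
        Matrix.mulVec_mulVec, hBG, Matrix.smul_mulVec, Matrix.one_mulVec, smul_smul, ← Nat.cast_mul, hkN]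
      rfl
    rw [e]
    simp
  have hsurj : ∀ v, Bm.mulVec v = 0 → v ∈ f.range := by
    intro v hv
    obtain ⟨w, rfl⟩ : ∃ w : Fin l → ℤ, (fun i => ((w i : ℤ) : ZMod m)) = v :=
      ⟨fun i => ((v i).val : ℤ), funext fun i => by simp⟩
    rw [hcast] at hv
    have hdvd : ∀ i, (m : ℤ) ∣ B.mulVec w i := fun i => (ZMod.intCast_zmod_eq_zero_iff_dvd _ _).1 (congrFun hv i)
    choose u hu using hdvd
    refine ⟨u, funext fun i => ?_⟩
    have e : (N : ℤ) • w = (m : ℤ) • G.mulVec u := by
      have h1 := congrArg G.mulVec (funext hu : B.mulVec w = fun i => (m : ℤ) * u i)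
      rw [Matrix.mulVec_mulVec, hGB, Matrix.smul_mulVec, Matrix.one_mulVec,
        show (fun i => (m : ℤ) * u i) = (m : ℤ) • u from rfl, Matrix.mulVec_smul] at h1
      exact h1
    have e' := congrFun e i
    simp only [Pi.smul_apply, smul_eq_mul] at e'
    rw [← hkN, Nat.cast_mul] at e'
    have e'' : w i = (k : ℤ) * G.mulVec u i := mul_left_cancel₀ (Int.natCast_ne_zero.2 hN0.ne') (by linear_combination e')
    show (((k : ℤ) * G.mulVec u i : ℤ) : ZMod m) = _
    rw [← e'']
  -- the image has at most `N` elements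
  let BL : (Fin l → ℤ) →ₗ[ℤ] (Fin l → ℤ) := Matrix.toLin' B
  have hBinj : Function.Injective BL := by
    rw [← LinearMap.ker_eq_bot, LinearMap.ker_eq_bot']
    intro x hx
    exact Matrix.eq_zero_of_mulVec_eq_zero (by rw [hdet]; exact_mod_cast hN0.ne') hx
  have hidx : Nat.card ((Fin l → ℤ) ⧸ LinearMap.range BL) = N := by
    rw [← Submodule.natAbs_det_equiv (LinearMap.range BL) (LinearEquiv.ofInjective BL hBinj)]
    have e : (LinearMap.range BL).subtype ∘ₗ AddMonoidHom.toIntLinearMap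
        ((LinearEquiv.ofInjective BL hBinj : (Fin l → ℤ) ≃ₗ[ℤ] LinearMap.range BL) :
          (Fin l → ℤ) →+ LinearMap.range BL) = BL := LinearMap.ext fun x => rfl
    rw [e, LinearMap.det_toLin', hdet, Int.natAbs_natCast]
  have hle : ∀ u ∈ LinearMap.range BL, f u = 0 := by
    rintro _ ⟨w, rfl⟩
    funext i
    show (((k : ℤ) * G.mulVec (Matrix.toLin' B w) i : ℤ) : ZMod m) = 0
    rw [Matrix.toLin'_apply, Matrix.mulVec_mulVec, hGB, Matrix.smul_mulVec, Matrix.one_mulVec, Pi.smul_apply,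
      smul_eq_mul, ← mul_assoc, ← Nat.cast_mul, hkN]
    simp
  have hcard : Nat.card f.range ≤ N := by
    rw [← hidx]
    have : Finite ((Fin l → ℤ) ⧸ LinearMap.range BL) :=
      Nat.finite_of_card_ne_zero (by rw [hidx]; exact hN0.ne')
    refine Nat.card_le_card_of_surjective
      (fun x : (Fin l → ℤ) ⧸ LinearMap.range BL =>
        (⟨Quotient.liftOn' x (fun u => f u) (fun a b h => ?_), ?_⟩ : f.range)) ?_
    · rw [Submodule.quotientRel_def] at h
      have := hle _ h
      rwa [map_sub, sub_eq_zero] at this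
    · induction x using Quotient.inductionOn' with
      | h u => exact ⟨u, rfl⟩
    · rintro ⟨_, u, rfl⟩
      exact ⟨Submodule.Quotient.mk u, rfl⟩
  -- the exponent is `N`
  have hexpd : ∀ x : f.range, N • x = 0 := by
    rintro ⟨_, u, rfl⟩
    refine Subtype.ext (funext fun i => ?_)
    show N • (((k : ℤ) * G.mulVec u i : ℤ) : ZMod m) = 0
    rw [nsmul_eq_mul, ← Int.cast_natCast, ← Int.cast_mul, ← mul_assoc, ← Nat.cast_mul, mul_comm N, hkN]
    simp
  obtain ⟨⟨v, hv⟩, hvo⟩ := AddMonoid.exists_addOrderOf_eq_exponent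
    (AddMonoid.ExponentExists.of_finite (G := f.range))
  have hexp : AddMonoid.exponent f.range = N := by
    refine Nat.dvd_antisymm (AddMonoid.exponent_dvd_of_forall_nsmul_eq_zero hexpd) ?_
    by_contra hnd
    have hed : AddMonoid.exponent f.range ∣ N := AddMonoid.exponent_dvd_of_forall_nsmul_eq_zero hexpd
    obtain ⟨c, hc⟩ := hed
    have hc1 : c ≠ 1 := fun h => hnd (by rw [hc, h, mul_one])
    obtain ⟨p, hpp, hpc⟩ := Nat.exists_prime_and_dvd hc1
    obtain ⟨c', rfl⟩ := hpc
    set e := AddMonoid.exponent f.range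
    have hG0 : ∀ i j, (p : ℤ) ∣ G i j := by
      intro i j
      have h1 : e • (⟨f (Pi.single j 1), _, rfl⟩ : f.range) = 0 := AddMonoid.exponent_nsmul_eq_zero _
      have h2 : e • (((k : ℤ) * G.mulVec (Pi.single j 1) i : ℤ) : ZMod m) = 0 :=
        congrFun (congrArg Subtype.val h1) i
      rw [Matrix.mulVec_single_one, Matrix.col_apply, nsmul_eq_mul, ← Int.cast_natCast, ← Int.cast_mul,
        ZMod.intCast_zmod_eq_zero_iff_dvd] at h2
      obtain ⟨z, hz⟩ := h2
      have hzN : ((p * c' : ℕ) : ℤ) * z = G i j := by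
        refine mul_left_cancel₀ (a := (e : ℤ) * k) ?_ ?_
        · refine mul_ne_zero ?_ ?_
          · exact_mod_cast (Nat.pos_of_mul_pos_right (hc ▸ hN0)).ne'
          · exact_mod_cast (Nat.pos_of_mul_pos_right (hkN.symm ▸ hm)).ne'
        · rw [show ((e : ℤ) * k) * (((p * c' : ℕ) : ℤ) * z) = ((k * (e * (p * c')) : ℕ) : ℤ) * z by push_cast; ring,
            ← hc, hkN, ← hz]
          ring
      rw [← hzN]; push_cast; exact Dvd.intro _ (by ring : (p : ℤ) * (c' * z) = _)
    have hpN : p ∣ N := ⟨e * c', by rw [hc]; ring⟩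
    have : Fact p.Prime := ⟨hpp⟩
    rcases hp p hpp hpN with hpd | hp2
    · have hdetp : ((Int.castRingHom (ZMod p)).mapMatrix B).det = 0 := by
        rw [← RingHom.map_det, hdet]
        simpa using (ZMod.natCast_eq_zero_iff N p).2 hpN
      obtain ⟨a, ha, hBa⟩ := Matrix.exists_mulVec_eq_zero_iff.2 hdetp
      have heig : (M.map (Int.cast : ℤ → ZMod p)).mulVec a = (q : ZMod p) • a := by
        have e : (Int.castRingHom (ZMod p)).mapMatrix B =
            Matrix.scalar (Fin l) (q : ZMod p) - M.map (Int.cast : ℤ → ZMod p) := by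
          simp [hB, map_sub]
        rw [e, Matrix.sub_mulVec, sub_eq_zero] at hBa
        rw [← hBa]
        funext i
        simp [Matrix.mulVec_diagonal]
      have h1 := aeval_mulVec_eigen heig (g.map (Int.castRingHom (ZMod p)))
      rw [cast_aeval, ← hG] at h1
      have hGz : (Int.castRingHom (ZMod p)).mapMatrix G = 0 := by
        ext i j
        exact (ZMod.intCast_zmod_eq_zero_iff_dvd _ _).2 (hG0 i j)
      rw [hGz, Matrix.zero_mulVec] at h1
      have hgq : (g.map (Int.castRingHom (ZMod p))).eval (q : ZMod p) = 0 :=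
        (smul_eq_zero.1 h1.symm).resolve_right ha
      have hg' := congrArg (fun f => (derivative (f.map (Int.castRingHom (ZMod p)))).eval (q : ZMod p)) hg
      simp only [Polynomial.map_sub, map_C, Polynomial.map_mul, map_X, derivative_sub,
        derivative_C, sub_zero, derivative_mul, derivative_X, eval_add, eval_mul, eval_sub, eval_X, eval_C,
        eval_one, one_mul, hgq, Polynomial.map_natCast, derivative_natCast, eval_natCast, eval_zero, eq_intCast, Int.cast_natCast, sub_self, zero_mul, mul_zero, add_zero] at hg'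
      exact hpd hg'
    · have h1 : (p : ℤ) ^ l ∣ G.det := by
        choose G' hG' using hG0
        have : G = (p : ℤ) • Matrix.of G' := by ext i j; simp [hG']
        rw [this, Matrix.det_smul, Fintype.card_fin]
        exact dvd_mul_right _ _
      have h2 : (N : ℤ) * G.det = (N : ℤ) ^ l := by
        rw [← hdet, ← Matrix.det_mul, hBG, Matrix.det_smul, Matrix.det_one, mul_one, Fintype.card_fin, hdet]
      obtain ⟨l', rfl⟩ : ∃ l', l = l' + 1 := ⟨l - 1, by omega⟩
      have h3 : (p : ℤ) ^ (l' + 1) ∣ (N : ℤ) ^ l' := by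
        have h5 := mul_dvd_mul_left (N : ℤ) h1
        rw [h2, pow_succ' (N : ℤ)] at h5
        exact (mul_dvd_mul_iff_left (Int.natCast_ne_zero.2 hN0.ne')).1 h5
      obtain ⟨N', rfl⟩ := hpN
      have h4 : (p : ℕ) ^ (l' + 1) ∣ (p * N') ^ l' := by exact_mod_cast h3
      rw [mul_pow, pow_succ, Nat.mul_dvd_mul_iff_left (pow_pos hpp.pos _)] at h4
      exact hp2 (by rw [pow_two]; exact Nat.mul_dvd_mul_left p (hpp.dvd_of_dvd_pow h4))
  refine ⟨v, ?_, ?_, fun u hu => ?_⟩
  · rw [← hexp, ← hvo]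
    exact AddSubgroup.addOrderOf_coe (⟨v, hv⟩ : f.range)
  · obtain ⟨w, rfl⟩ := hv; exact hfker w
  · have hsub : AddSubgroup.zmultiples v ≤ f.range := AddSubgroup.zmultiples_le.2 hv
    have hcz : Nat.card (AddSubgroup.zmultiples v) = N := by
      rw [Nat.card_zmultiples, ← hexp, ← hvo]
      exact AddSubgroup.addOrderOf_coe (⟨v, hv⟩ : f.range)
    rw [AddSubgroup.eq_of_le_of_card_ge hsub (by rw [hcz]; exact hcard)]
    exact hsurj u hu

end Cfsg.Agent.Lib.Chev.E6Cyclic
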